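import Groth.Agent.Lib.Pic85.Torsion
import Groth.Agent.Lib.GrpQ.Rosenlicht
import Mathlib.RingTheory.Flat.Basic
import Mathlib.RingTheory.Localization.FractionRing

/-!
# Invariant generators of an equivariant invertible ideal on a trivial torsor

`R` is the coordinate ring of an affine torsor over `T`, `ρ : R → R ⊗ A` the coaction, and
`R ⊗[T] R ≅ R ⊗ A`.  An invertible ideal whose two inverse images to `R ⊗[T] R` are isomorphic is
generated, over a nonempty open of `T`, by one invariant element.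
-/

set_option autoImplicit false
universe u
open scoped TensorProduct

namespace Groth.Agent.Lib.TorPic85

open Groth.Agent.Lib.Pic85

noncomputable section

theorem lp_map {R S : Type u} [CommRing R] [CommRing S] (φ : R →+* S) (I : Ideal R) [Module.Invertible R I] :
    LP (I.map φ) := fun m hm => by
  obtain ⟨f, x, hx⟩ := exists_functional_notMem (M := I) _ (Ideal.comap_ne_top φ hm.ne_top)
  refine ⟨φ x, Ideal.mem_map_of_mem _ x.2, φ (f x), hx, fun y hy => ?_⟩
  induction hy using Submodule.span_induction with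
  | mem y hy =>
    obtain ⟨z, hz, rfl⟩ := hy
    refine ⟨φ (f ⟨z, hz⟩), ?_⟩
    rw [← map_mul, ← map_mul]
    exact congrArg φ (congrArg Subtype.val (hom_comm f x ⟨z, hz⟩))
  | zero => exact ⟨0, by simp⟩
  | add p q _ _ hp hq =>
    obtain ⟨c, hc⟩ := hp; obtain ⟨d, hd⟩ := hq
    exact ⟨c + d, by rw [mul_add, hc, hd, add_mul]⟩
  | smul r p _ hp =>
    obtain ⟨c, hc⟩ := hp
    exact ⟨r * c, by rw [smul_eq_mul, mul_left_comm, hc, mul_assoc]⟩

variable {k T R A : Type u} [Field k] [CommRing T] [CommRing R] [CommRing A] [Algebra k T] [Algebra k R]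
  [Algebra k A] [Algebra T R] [IsScalarTower k T R]

/-- The comparison `R ⊗[T] R → R ⊗ A`, `x ⊗ y ↦ (x ⊗ 1) ρ(y)`. -/
def cmp (ρ : R →ₐ[T] R ⊗[k] A) : R ⊗[T] R →ₐ[R] R ⊗[k] A :=
  Algebra.TensorProduct.lift (Algebra.ofId R (R ⊗[k] A)) ρ fun _ _ => Commute.all _ _

@[simp] theorem cmp_tmul (ρ : R →ₐ[T] R ⊗[k] A) (x y : R) :
    cmp ρ (x ⊗ₜ y) = (x ⊗ₜ (1 : A)) * ρ y := by
  simp [cmp, Algebra.TensorProduct.algebraMap_apply, Algebra.ofId_apply]

/-- Evaluation of two points. -/
abbrev pm {B C : Type u} [CommRing B] [CommRing C] [Algebra k B] [Algebra k C] (x : B →ₐ[k] k) (y : C →ₐ[k] k) :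
    B ⊗[k] C →ₐ[k] k := Algebra.TensorProduct.productMap x y

/-- The comparison for triples. -/
def cmp₃ (ρ : R →ₐ[T] R ⊗[k] A) : (R ⊗[T] R) ⊗[T] R →ₗ[T] (R ⊗[k] A) ⊗[k] A :=
  TensorProduct.lift
    { toFun := fun p =>
        ((LinearMap.mulLeft T ((cmp ρ p) ⊗ₜ[k] (1 : A))).comp
          ((Algebra.TensorProduct.map (Algebra.TensorProduct.includeLeft : R →ₐ[T] R ⊗[k] A) (AlgHom.id k A)).toLinearMap.comp
            ρ.toLinearMap))
      map_add' := fun p q => LinearMap.ext fun r => by
        simp only [map_add, TensorProduct.add_tmul, LinearMap.comp_apply, LinearMap.mulLeft_apply, LinearMap.add_apply,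
          add_mul]
      map_smul' := fun t p => LinearMap.ext fun r => by
        simp only [LinearMap.comp_apply, LinearMap.mulLeft_apply, LinearMap.smul_apply, RingHom.id_apply,
          AlgHom.map_smul_of_tower, ← TensorProduct.smul_tmul', smul_mul_assoc] }

@[simp] theorem cmp₃_tmul (ρ : R →ₐ[T] R ⊗[k] A) (p : R ⊗[T] R) (r : R) :
    cmp₃ ρ (p ⊗ₜ r) = ((cmp ρ p) ⊗ₜ[k] (1 : A)) *
      Algebra.TensorProduct.map (Algebra.TensorProduct.includeLeft : R →ₐ[T] R ⊗[k] A) (AlgHom.id k A) (ρ r) := rfl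

theorem cmp₃_mul (ρ : R →ₐ[T] R ⊗[k] A) (z w : (R ⊗[T] R) ⊗[T] R) : cmp₃ ρ (z * w) = cmp₃ ρ z * cmp₃ ρ w := by
  induction z using TensorProduct.induction_on with
  | zero => simp
  | add a b ha hb => simp only [add_mul, map_add, ha, hb]
  | tmul p r =>
    induction w using TensorProduct.induction_on with
    | zero => simp
    | add a b ha hb => simp only [mul_add, map_add, ha, hb]
    | tmul q s =>
      rw [Algebra.TensorProduct.tmul_mul_tmul, cmp₃_tmul, cmp₃_tmul, cmp₃_tmul, map_mul, map_mul, map_mul,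
        show ((cmp ρ p * cmp ρ q) ⊗ₜ[k] (1 : A)) = ((cmp ρ p) ⊗ₜ[k] (1 : A)) * ((cmp ρ q) ⊗ₜ[k] (1 : A)) by simp]
      ring

theorem cmp₃_one (ρ : R →ₐ[T] R ⊗[k] A) : cmp₃ ρ 1 = 1 := by
  rw [Algebra.TensorProduct.one_def, cmp₃_tmul]
  simp [Algebra.TensorProduct.one_def]

theorem cmp₃_injective (ρ : R →ₐ[T] R ⊗[k] A) (hρ : Function.Bijective (cmp ρ)) : Function.Injective (cmp₃ ρ) := by
  let e : R ⊗[T] R ≃ₗ[R] R ⊗[k] A := LinearEquiv.ofBijective (cmp ρ).toLinearMap hρ
  let c₁ := TensorProduct.AlgebraTensorModule.cancelBaseChange T R R (R ⊗[T] R) R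
  let c₂ := TensorProduct.AlgebraTensorModule.cancelBaseChange k R R (R ⊗[k] A) A
  have h : ∀ z, cmp₃ ρ z = c₂ (TensorProduct.congr e e (c₁.symm z)) := by
    intro z
    induction z using TensorProduct.induction_on with
    | zero => simp
    | add a b ha hb => simp only [map_add, ha, hb]
    | tmul p r =>
      simp only [c₁, TensorProduct.AlgebraTensorModule.cancelBaseChange_symm_tmul, TensorProduct.congr_tmul,
        cmp₃_tmul]
      rw [show e p = cmp ρ p from rfl, show e ((1 : R) ⊗ₜ[T] r) = cmp ρ ((1 : R) ⊗ₜ r) from rfl, cmp_tmul,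
        show ((1 : R) ⊗ₜ[k] (1 : A)) = 1 from rfl, one_mul]
      induction ρ r using TensorProduct.induction_on with
      | zero => simp
      | add a b ha hb => simp only [map_add, mul_add, TensorProduct.tmul_add, ha, hb]
      | tmul s a =>
        simp only [c₂, TensorProduct.AlgebraTensorModule.cancelBaseChange_tmul, Algebra.TensorProduct.map_tmul,
          Algebra.TensorProduct.tmul_mul_tmul, AlgHom.id_apply, one_mul]
        rw [Algebra.smul_def, mul_comm]
        rfl
  intro a b hab
  rw [h, h] at hab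
  exact c₁.symm.injective ((TensorProduct.congr e e).injective (c₂.injective hab))

variable [IsAlgClosed k] [IsDomain R] [IsDomain A] [IsDomain T] [IsDomain (R ⊗[k] A)]
  [IsDomain ((R ⊗[k] A) ⊗[k] A)] [Algebra.FiniteType k R] [Algebra.FiniteType k A]

/-- An equivariant invertible ideal is generated, over a nonempty open of `T`, by one invariant. -/
theorem exists_generator [Module.Flat T R] [IsNoetherianRing R] (hinj : Function.Injective (algebraMap T R))
    (ρ : R →ₐ[T] R ⊗[k] A) (hρ : Function.Bijective (cmp ρ)) (ε : A →ₐ[k] k)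
    (hε : ∀ (x : R →ₐ[k] k) (r : R), pm x ε (ρ r) = x r)
    (I : Ideal R) (hI : I ≠ ⊥) [Module.Invertible R I] (e₀ : I → R ⊗[T] R)
    (cross₀ : ∀ x y : I, e₀ x * ((1 : R) ⊗ₜ[T] (y : R)) = e₀ y * ((1 : R) ⊗ₜ[T] (x : R)))
    (mem₀ : ∀ x, e₀ x ∈ I.map (Algebra.TensorProduct.includeLeft : R →ₐ[T] R ⊗[T] R))
    (span₀ : I.map (Algebra.TensorProduct.includeLeft : R →ₐ[T] R ⊗[T] R) ≤ Ideal.span (Set.range e₀)) :
    ∃ m₁ ∈ I, m₁ ≠ 0 ∧ ∃ t : T, t ≠ 0 ∧ ∀ y ∈ I, algebraMap T R t * y ∈ Ideal.span {m₁} := by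
  classical
  let iL : R →ₐ[T] R ⊗[T] R := Algebra.TensorProduct.includeLeft
  let iR : R →ₐ[T] R ⊗[T] R := Algebra.TensorProduct.includeRight
  let J := I.map iL
  have hinjR : Function.Injective iR := Algebra.TensorProduct.includeRight_injective hinj
  have : IsDomain (R ⊗[T] R) := hρ.1.isDomain (cmp ρ)
  obtain ⟨y₀, hy₀m, hy₀⟩ := Submodule.exists_mem_ne_zero_of_ne_bot hI
  let y : I := ⟨y₀, hy₀m⟩
  have hRy : iR y₀ ≠ 0 := fun h => hy₀ (hinjR (h.trans (map_zero _).symm))
  -- normalisation on the diagonal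
  let d : R ⊗[T] R →ₐ[T] R := Algebra.TensorProduct.lmul' T
  have hd : ∀ a b : R, d (a ⊗ₜ b) = a * b := fun a b => Algebra.TensorProduct.lmul'_apply_tmul a b
  have hdJ : ∀ v ∈ J, d v ∈ I := fun v hv => by
    induction hv using Submodule.span_induction with
    | mem v hv => obtain ⟨z, hz, rfl⟩ := hv; simpa [iL, hd] using hz
    | zero => simp
    | add p q _ _ hp hq => rw [map_add]; exact add_mem hp hq
    | smul c p _ hp => rw [smul_eq_mul, map_mul]; exact Ideal.mul_mem_left _ _ hp
  obtain ⟨w, hwu, hw⟩ := exists_unit_ratio (fun x : I => d (e₀ x)) (fun x => (x : R)) (fun x => (x : R)) I hI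
    lp_of_invertible y hy₀ (fun a b => by have := congrArg d (cross₀ a b); simpa [hd] using this)
    (fun a b => mul_comm _ _) (fun x => hdJ _ (mem₀ x)) (fun x => x.2) (fun x hx => by
      suffices h : ∀ v ∈ Ideal.span (Set.range e₀), d v ∈ Ideal.span (Set.range fun x : I => d (e₀ x)) by
        have := h _ (span₀ (Ideal.mem_map_of_mem _ hx))
        simpa [hd] using this
      intro v hv
      induction hv using Submodule.span_induction with
      | mem v hv => obtain ⟨z, rfl⟩ := hv; exact Ideal.subset_span ⟨z, rfl⟩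
      | zero => simp
      | add p q _ _ hp hq => rw [map_add]; exact add_mem hp hq
      | smul c p _ hp => rw [smul_eq_mul, map_mul]; exact Ideal.mul_mem_left _ _ hp)
    (fun x hx => Ideal.subset_span ⟨⟨x, hx⟩, rfl⟩)
  obtain ⟨w', hw'⟩ := hwu.exists_left_inv
  let e : I → R ⊗[T] R := fun x => iL w' * e₀ x
  have cross : ∀ x y : I, e x * iR y = e y * iR x := fun x y => by
    simp only [e, mul_assoc]; exact congrArg (iL w' * ·) (cross₀ x y)
  have mem : ∀ x, e x ∈ J := fun x => Ideal.mul_mem_left _ _ (mem₀ x)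
  have span : J ≤ Ideal.span (Set.range e) := span₀.trans (Ideal.span_le.mpr (by
    rintro _ ⟨x, rfl⟩
    have : e₀ x = iL w * e x := by
      rw [← mul_assoc, ← map_mul, mul_comm w, hw', map_one, one_mul]
    rw [this]
    exact Ideal.mul_mem_left _ _ (Ideal.subset_span ⟨x, rfl⟩)))
  have hde : ∀ x, d (e x) = x := fun x => by
    have h : d (e₀ x) = w * (x : R) := hw x
    simp only [e, map_mul, h]
    rw [← mul_assoc]
    simp [iL, hd, hw']
  -- semilinearity and linearity
  have hsmul : ∀ (r : R) (x : I), e (r • x) = iR r * e x := fun r x => by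
    refine mul_right_cancel₀ hRy ?_
    rw [cross (r • x) y, show ((r • x : I) : R) = r * x from rfl, map_mul]
    linear_combination iR r * cross y x
  let eT : I →ₗ[T] R ⊗[T] R :=
    { toFun := e
      map_add' := fun a b => mul_right_cancel₀ hRy (by
        rw [add_mul, cross a y, cross b y, cross (a + b) y, ← mul_add, ← map_add]; rfl)
      map_smul' := fun t a => by
        rw [RingHom.id_apply, ← algebraMap_smul R t a, hsmul, AlgHom.commutes, Algebra.smul_def] }
  let sI : I →ₗ[T] R := I.subtype.restrictScalars T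
  let iLI : I →ₗ[T] R ⊗[T] R := iL.toLinearMap.comp sI
  let ι₁ : I ⊗[T] R →ₗ[T] R ⊗[T] R := LinearMap.rTensor R sI
  have hι₁ : Function.Injective ι₁ := Module.Flat.rTensor_preserves_injective_linearMap sI Subtype.val_injective
  have hlift : ∀ v ∈ J, ∃ z, ι₁ z = v := by
    intro v hv
    induction hv using Submodule.span_induction with
    | mem v hv => obtain ⟨z, hz, rfl⟩ := hv; exact ⟨⟨z, hz⟩ ⊗ₜ 1, rfl⟩
    | zero => exact ⟨0, map_zero _⟩
    | add a b _ _ ha hb => obtain ⟨z, rfl⟩ := ha; obtain ⟨z', rfl⟩ := hb; exact ⟨z + z', map_add _ _ _⟩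
    | smul c v hvm hv =>
      obtain ⟨z, rfl⟩ := hv
      clear hvm
      induction c using TensorProduct.induction_on with
      | zero => exact ⟨0, by simp⟩
      | add a b ha hb =>
        obtain ⟨p, hp⟩ := ha; obtain ⟨q, hq⟩ := hb
        exact ⟨p + q, by rw [map_add, hp, hq, add_smul]⟩
      | tmul a b =>
        refine ⟨TensorProduct.map ((a • LinearMap.id (R := R) (M := I)).restrictScalars T) (LinearMap.mulLeft T b) z, ?_⟩
        induction z using TensorProduct.induction_on with
        | zero => simp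
        | add p q hp hq => simp only [map_add, smul_add, hp, hq]
        | tmul p q => simp [ι₁, sI, smul_eq_mul]
  choose z hz using fun x => hlift _ (mem x)
  -- the two maps to the triple product
  let d13 : R ⊗[T] R →ₗ[T] (R ⊗[T] R) ⊗[T] R := LinearMap.rTensor R iL.toLinearMap
  let F₁ : I → (R ⊗[T] R) ⊗[T] R := fun x => LinearMap.rTensor R eT (z x)
  let F₂ : I → (R ⊗[T] R) ⊗[T] R := fun x => LinearMap.rTensor R iLI (z x)
  have hF₂ : ∀ x, F₂ x = d13 (e x) := fun x => by
    simp only [F₂, d13, ← hz x, ι₁, iLI, ← LinearMap.rTensor_comp_apply]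
  let D₁ : I → (R ⊗[T] R) ⊗[T] R := fun x => (1 : R ⊗[T] R) ⊗ₜ[T] (x : R)
  let J₃ := I.map ((Algebra.TensorProduct.includeLeft : R ⊗[T] R →ₐ[T] (R ⊗[T] R) ⊗[T] R).comp iL)
  have hslide : ∀ w : I ⊗[T] R, (iR y₀ ⊗ₜ[T] (1 : R)) * LinearMap.rTensor R eT w =
      (e y ⊗ₜ[T] (1 : R)) * LinearMap.rTensor R iR.toLinearMap (ι₁ w) := by
    intro w
    induction w using TensorProduct.induction_on with
    | zero => simp
    | add p q hp hq => simp only [map_add, mul_add, hp, hq]
    | tmul p q =>
      simp only [ι₁, LinearMap.rTensor_tmul, AlgHom.toLinearMap_apply, Algebra.TensorProduct.tmul_mul_tmul, one_mul]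
      congr 1
      show iR y₀ * e p = e y * iR p
      rw [mul_comm]; exact cross p y
  let r23 : R ⊗[T] R →ₐ[T] (R ⊗[T] R) ⊗[T] R := Algebra.TensorProduct.map iR (AlgHom.id T R)
  let r13 : R ⊗[T] R →ₐ[T] (R ⊗[T] R) ⊗[T] R := Algebra.TensorProduct.map iL (AlgHom.id T R)
  have hr23 : ∀ v, LinearMap.rTensor R iR.toLinearMap v = r23 v := fun v => by
    induction v using TensorProduct.induction_on with
    | zero => simp
    | add p q hp hq => simp only [map_add, hp, hq]
    | tmul p q => rfl
  have hr13 : ∀ v, d13 v = r13 v := fun v => by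
    induction v using TensorProduct.induction_on with
    | zero => simp
    | add p q hp hq => simp only [map_add, hp, hq]
    | tmul p q => rfl
  have h3inj := cmp₃_injective ρ hρ
  have hdom3 : IsDomain ((R ⊗[T] R) ⊗[T] R) := Function.Injective.isDomain
    (f := ({ toFun := cmp₃ ρ, map_one' := cmp₃_one ρ, map_mul' := cmp₃_mul ρ, map_zero' := map_zero _,
             map_add' := map_add _ } : (R ⊗[T] R) ⊗[T] R →+* (R ⊗[k] A) ⊗[k] A)) h3inj
  have hc : iR y₀ ⊗ₜ[T] (1 : R) ≠ 0 := fun h => hRy (by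
    have h1 := congrArg (Algebra.TensorProduct.lift (AlgHom.id T (R ⊗[T] R)) iR fun _ _ => Commute.all _ _) h
    simpa using h1)
  have c₁ : ∀ a b, F₁ a * D₁ b = F₁ b * D₁ a := fun a b => by
    refine mul_left_cancel₀ hc ?_
    rw [← mul_assoc, hslide, ← mul_assoc, hslide, hz, hz, hr23, hr23, mul_assoc, mul_assoc]
    have h : ∀ c : I, D₁ c = r23 (iR c) := fun c => by simp [D₁, r23, iR, Algebra.TensorProduct.one_def]
    rw [h, h, ← map_mul, ← map_mul, cross]
  have c₂ : ∀ a b, F₂ a * D₁ b = F₂ b * D₁ a := fun a b => by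
    have h : ∀ c : I, D₁ c = r13 (iR c) := fun c => by simp [D₁, r13, iR, iL, Algebra.TensorProduct.one_def]
    rw [hF₂, hF₂, hr13, hr13, h, h, ← map_mul, ← map_mul, cross]
  have m₂ : ∀ x, F₂ x ∈ J₃ := fun x => by
    rw [hF₂, hr13]
    have hmx := mem x
    generalize e x = v at hmx ⊢
    induction hmx using Submodule.span_induction with
    | mem v hv =>
      obtain ⟨p, hp, rfl⟩ := hv
      exact Ideal.subset_span ⟨p, hp, by simp [r13, iL]⟩
    | zero => simp
    | add p q _ _ hp hq => rw [map_add]; exact add_mem hp hq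
    | smul c p _ hp => rw [smul_eq_mul, map_mul]; exact Ideal.mul_mem_left _ _ hp
  have m₁ : ∀ x, F₁ x ∈ J₃ := fun x => by
    show LinearMap.rTensor R eT (z x) ∈ J₃
    induction z x using TensorProduct.induction_on with
    | zero => simp
    | add p q hp hq => rw [map_add]; exact add_mem hp hq
    | tmul p q =>
      show e p ⊗ₜ[T] q ∈ J₃
      have hmp := mem p
      generalize e p = v at hmp ⊢
      induction hmp using Submodule.span_induction with
      | mem v hv =>
        obtain ⟨r, hr, rfl⟩ := hv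
        rw [show iL r ⊗ₜ[T] q = ((1 : R ⊗[T] R) ⊗ₜ[T] q) * (iL r ⊗ₜ[T] (1 : R)) by simp]
        exact Ideal.mul_mem_left _ _ (Ideal.subset_span ⟨r, hr, rfl⟩)
      | zero => simp
      | add a b _ _ ha hb => rw [TensorProduct.add_tmul]; exact add_mem ha hb
      | smul c a _ ha =>
        rw [show (c • a) ⊗ₜ[T] q = (c ⊗ₜ[T] (1 : R)) * (a ⊗ₜ[T] q) by simp]
        exact Ideal.mul_mem_left _ _ ha
  have s₂ : J₃ ≤ Ideal.span (Set.range F₂) := by
    refine Ideal.map_le_iff_le_comap.mpr fun r hr => ?_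
    suffices h : ∀ v ∈ Ideal.span (Set.range e), r13 v ∈ Ideal.span (Set.range F₂) by
      have := h _ (span (Ideal.mem_map_of_mem _ hr))
      simpa [r13, iL] using this
    intro v hv
    induction hv using Submodule.span_induction with
    | mem v hv =>
      obtain ⟨x, rfl⟩ := hv
      rw [← hr13, ← hF₂]; exact Ideal.subset_span ⟨x, rfl⟩
    | zero => simp
    | add p q _ _ hp hq => rw [map_add]; exact add_mem hp hq
    | smul c p _ hp => rw [smul_eq_mul, map_mul]; exact Ideal.mul_mem_left _ _ hp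
  have s₁ : J₃ ≤ Ideal.span (Set.range F₁) := by
    refine Ideal.map_le_iff_le_comap.mpr fun r hr => ?_
    have key : ∀ p : I, e p ⊗ₜ[T] (1 : R) ∈ Ideal.span (Set.range F₁) := by
      intro p
      suffices h : ∀ v ∈ Ideal.span (Set.range e), ∃ w, (iR y₀ ⊗ₜ[T] (1 : R)) * w = (e y ⊗ₜ[T] (1 : R)) * r23 v ∧
          w ∈ Ideal.span (Set.range F₁) by
        obtain ⟨w, hw, hw'⟩ := h _ (span (Ideal.mem_map_of_mem _ p.2))
        have h2 := hslide (p ⊗ₜ 1)
        rw [hr23] at h2
        change _ = (e y ⊗ₜ[T] (1 : R)) * r23 (iL p) at h2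
        rw [← h2] at hw
        rw [mul_left_cancel₀ hc hw] at hw'
        exact hw'
      intro v hv
      induction hv using Submodule.span_induction with
      | mem v hv =>
        obtain ⟨x, rfl⟩ := hv
        exact ⟨F₁ x, by rw [hslide, hz, hr23], Ideal.subset_span ⟨x, rfl⟩⟩
      | zero => exact ⟨0, by simp, by simp⟩
      | add p q _ _ hp hq =>
        obtain ⟨a, ha, ha'⟩ := hp; obtain ⟨b, hb, hb'⟩ := hq
        exact ⟨a + b, by rw [mul_add, map_add, mul_add, ha, hb], add_mem ha' hb'⟩
      | smul c p _ hp =>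
        obtain ⟨a, ha, ha'⟩ := hp
        exact ⟨r23 c * a, by rw [smul_eq_mul, map_mul, mul_left_comm, ha, mul_left_comm], Ideal.mul_mem_left _ _ ha'⟩
    suffices h : ∀ v ∈ Ideal.span (Set.range e), v ⊗ₜ[T] (1 : R) ∈ Ideal.span (Set.range F₁) from
      h _ (span (Ideal.mem_map_of_mem _ hr))
    intro v hv
    induction hv using Submodule.span_induction with
    | mem v hv => obtain ⟨x, rfl⟩ := hv; exact key x
    | zero => simp
    | add p q _ _ hp hq => rw [TensorProduct.add_tmul]; exact add_mem hp hq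
    | smul c p _ hp =>
      rw [show (c • p) ⊗ₜ[T] (1 : R) = (c ⊗ₜ[T] (1 : R)) * (p ⊗ₜ[T] (1 : R)) by simp]
      exact Ideal.mul_mem_left _ _ hp
  have hD₁ : D₁ y ≠ 0 := fun h => hy₀ (by
    have h1 := congrArg (Algebra.TensorProduct.lift (d : R ⊗[T] R →ₐ[T] R) (AlgHom.id T R) fun _ _ => Commute.all _ _) h
    simpa [D₁, y] using h1)
  have hJ₃ : J₃ ≠ ⊥ := fun h => hy₀ (by
    have h0 : ((Algebra.TensorProduct.includeLeft : R ⊗[T] R →ₐ[T] (R ⊗[T] R) ⊗[T] R).comp iL) y₀ = 0 :=
      Ideal.mem_bot.mp (h ▸ Ideal.mem_map_of_mem _ hy₀m)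
    have h1 := congrArg (Algebra.TensorProduct.lift (d : R ⊗[T] R →ₐ[T] R) (AlgHom.id T R) fun _ _ => Commute.all _ _) h0
    simpa [iL, hd] using h1)
  obtain ⟨u, huu, hu⟩ := exists_unit_ratio F₁ F₂ D₁ J₃ hJ₃ (lp_map _ I) y hD₁ c₁ c₂ m₁ m₂ s₁ s₂
  -- the degeneracies
  let d12 : (R ⊗[T] R) ⊗[T] R →ₐ[T] R ⊗[T] R := Algebra.TensorProduct.map d (AlgHom.id T R)
  let d23 : (R ⊗[T] R) ⊗[T] R →ₐ[T] R ⊗[T] R :=
    Algebra.TensorProduct.lift (AlgHom.id T _) iR fun _ _ => Commute.all _ _
  have hey : e y ≠ 0 := fun h => hy₀ (by have := hde y; rw [h, map_zero] at this; exact this.symm)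
  have hd13a : ∀ v, d12 (r13 v) = v := fun v => by
    induction v using TensorProduct.induction_on with
    | zero => simp
    | add p q hp hq => simp only [map_add, hp, hq]
    | tmul p q => simp [d12, r13, iL, hd]
  have hd13b : ∀ v, d23 (r13 v) = v := fun v => by
    induction v using TensorProduct.induction_on with
    | zero => simp
    | add p q hp hq => simp only [map_add, hp, hq]
    | tmul p q => simp [d23, r13, iL, iR]
  have h12 : d12 u = 1 := by
    have h := congrArg d12 (hu y)
    rw [map_mul, hF₂, hr13, hd13a] at h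
    have h2 : d12 (F₁ y) = e y := by
      rw [← hz y]
      show d12 (LinearMap.rTensor R eT (z y)) = ι₁ (z y)
      induction z y using TensorProduct.induction_on with
      | zero => simp
      | add p q hp hq => simp only [map_add, hp, hq]
      | tmul p q => simp [d12, ι₁, sI, eT, hde]
    rw [h2] at h
    exact (mul_eq_right₀ hey).mp h.symm
  have h23 : d23 u = 1 := by
    have h := congrArg d23 (hu y)
    rw [map_mul, hF₂, hr13, hd13b] at h
    have h2 : d23 (F₁ y) = e y := by
      have hμ : ∀ w : I ⊗[T] R, d23 (LinearMap.rTensor R eT w) =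
          e (TensorProduct.lift (LinearMap.flip ((LinearMap.lsmul R I).restrictScalars₁₂ T T)) w) := by
        intro w
        induction w using TensorProduct.induction_on with
        | zero => simp only [map_zero]; exact (map_zero eT).symm
        | add p q hp hq => simp only [map_add, hp, hq]; exact (map_add eT _ _).symm
        | tmul p q =>
          show d23 (e p ⊗ₜ[T] q) = e (q • p)
          rw [hsmul]; simp [d23, mul_comm]
      show d23 (LinearMap.rTensor R eT (z y)) = e y
      rw [hμ]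
      congr 1
      apply Subtype.ext
      rw [← hde y, ← hz y]
      induction z y using TensorProduct.induction_on with
      | zero => simp
      | add p q hp hq => simp only [map_add, Submodule.coe_add, hp, hq]
      | tmul p q => simp [ι₁, sI, hd, smul_eq_mul, mul_comm]
    rw [h2] at h
    exact (mul_eq_right₀ hey).mp h.symm
  have hu1 : u = 1 := by
    apply h3inj
    rw [cmp₃_one]
    have huZ : IsUnit (cmp₃ ρ u) := by
      obtain ⟨v, hv⟩ := huu.exists_left_inv
      refine IsUnit.of_mul_eq_one (cmp₃ ρ v) ?_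
      rw [← cmp₃_mul, mul_comm, hv, cmp₃_one]
    have hWft : Algebra.FiniteType k (R ⊗[k] A) := by
      have : Algebra.FiniteType R (R ⊗[k] A) := inferInstance
      exact Algebra.FiniteType.trans (inferInstance : Algebra.FiniteType k R) this
    have hZft : Algebra.FiniteType k ((R ⊗[k] A) ⊗[k] A) := by
      have : Algebra.FiniteType (R ⊗[k] A) ((R ⊗[k] A) ⊗[k] A) := inferInstance
      exact Algebra.FiniteType.trans hWft this
    refine GrpQ.Rosenlicht.eq_of_forall_point (k := k) fun zp => ?_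
    have hprod : ∀ {B C : Type u} [CommRing B] [CommRing C] [Algebra k B] [Algebra k C] (q : B ⊗[k] C →ₐ[k] k),
        q = pm (q.comp Algebra.TensorProduct.includeLeft) (q.comp Algebra.TensorProduct.includeRight) := fun q =>
      Algebra.TensorProduct.ext' fun a b => by simp [← map_mul]
    rw [map_one, hprod zp]
    generalize zp.comp Algebra.TensorProduct.includeLeft = p
    generalize zp.comp Algebra.TensorProduct.includeRight = h
    rw [hprod p]
    generalize p.comp Algebra.TensorProduct.includeLeft = x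
    generalize p.comp Algebra.TensorProduct.includeRight = g
    have key := UnitsProd.ev_mul_ev (cmp₃ ρ u) huZ (pm x g) (pm x ε) h g
    have hmap : ∀ (q : R ⊗[k] A →ₐ[k] k) (l : A →ₐ[k] k) (v : R ⊗[k] A),
        pm q l (Algebra.TensorProduct.map (Algebra.TensorProduct.includeLeft : R →ₐ[T] R ⊗[k] A) (AlgHom.id k A) v) =
          pm (q.comp Algebra.TensorProduct.includeLeft) l v := by
      intro q l v
      induction v using TensorProduct.induction_on with
      | zero => simp
      | add a b ha hb => simp only [map_add, ha, hb]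
      | tmul a b => simp
    have hL : ∀ (l : A →ₐ[k] k), (pm x l).comp Algebra.TensorProduct.includeLeft = x := fun l =>
      AlgHom.ext fun r => by simp
    have e12 : ∀ (l : A →ₐ[k] k) (v : (R ⊗[T] R) ⊗[T] R), pm (pm x ε) l (cmp₃ ρ v) = pm x l (cmp ρ (d12 v)) := by
      intro l v
      induction v using TensorProduct.induction_on with
      | zero => simp
      | add a b ha hb => simp only [map_add, ha, hb]
      | tmul a c =>
        rw [cmp₃_tmul, map_mul, hmap, hL]
        induction a using TensorProduct.induction_on with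
        | zero => simp
        | add a b ha hb => simp only [map_add, TensorProduct.add_tmul, add_mul, ha, hb]
        | tmul a b => simp [d12, hd, hε, mul_assoc]
    have e23 : ∀ (v : (R ⊗[T] R) ⊗[T] R), pm (pm x g) g (cmp₃ ρ v) = pm x g (cmp ρ (d23 v)) := by
      intro v
      induction v using TensorProduct.induction_on with
      | zero => simp
      | add a b ha hb => simp only [map_add, ha, hb]
      | tmul a c =>
        rw [cmp₃_tmul, map_mul, hmap, hL]
        induction a using TensorProduct.induction_on with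
        | zero => simp
        | add a b ha hb => simp only [map_add, TensorProduct.add_tmul, add_mul, ha, hb]
        | tmul a b => simp [d23, iR, mul_assoc]
    change pm (pm x g) h (cmp₃ ρ u) * pm (pm x ε) g (cmp₃ ρ u) =
      pm (pm x ε) h (cmp₃ ρ u) * pm (pm x g) g (cmp₃ ρ u) at key
    rw [e12, e12, e23, h12, h23, map_one, map_one, map_one, _root_.mul_one, _root_.mul_one] at key
    exact key
  -- the invariant elements span
  let M₀ : Submodule T I := LinearMap.ker (eT - iLI)
  have hspan : I ≤ Ideal.span ((fun m : I => (m : R)) '' (M₀ : Set I)) := by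
    intro x hx
    have h0 : LinearMap.rTensor R (eT - iLI) (z ⟨x, hx⟩) = 0 := by
      rw [LinearMap.rTensor_sub, LinearMap.sub_apply, sub_eq_zero]
      have := hu ⟨x, hx⟩
      rwa [hu1, one_mul] at this
    have hex := Module.Flat.rTensor_exact R (LinearMap.exact_subtype_ker_map (eT - iLI))
    obtain ⟨v, hv⟩ := (hex _).mp h0
    have hxe : x = d (ι₁ (z ⟨x, hx⟩)) := by rw [hz, hde]
    rw [hxe, ← hv]
    clear hv hxe h0
    induction v using TensorProduct.induction_on with
    | zero => simp
    | add p q hp hq => simp only [map_add]; exact add_mem hp hq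
    | tmul p q =>
      simp only [ι₁, LinearMap.rTensor_tmul, hd]
      exact Ideal.mul_mem_right _ _ (Ideal.subset_span ⟨p.1, p.2, rfl⟩)
  obtain ⟨m₁', hm₁', hm₁0⟩ : ∃ m ∈ M₀, (m : R) ≠ 0 := by
    by_contra hc
    simp only [not_exists, not_and, not_not] at hc
    refine hI (bot_unique (hspan.trans (Ideal.span_le.mpr ?_)))
    rintro _ ⟨m, hm, rfl⟩
    exact Ideal.mem_bot.mpr (hc m hm)
  -- the invariants have rank one
  let K := FractionRing T
  let j : R →ₐ[T] K ⊗[T] R := Algebra.TensorProduct.includeRight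
  have hjinj : Function.Injective j := Algebra.TensorProduct.includeRight_injective (IsFractionRing.injective T K)
  have hjm : j m₁' ≠ 0 := fun h => hm₁0 (hjinj (h.trans (map_zero _).symm))
  obtain ⟨φ, hφ⟩ := (LinearMap.toSpanSingleton K (K ⊗[T] R) (j m₁')).exists_leftInverse_of_injective
    (LinearMap.ker_eq_bot.mpr (smul_left_injective K hjm))
  have hφ1 : φ (j m₁') = 1 := by
    have := LinearMap.congr_fun hφ 1
    simpa using this
  have hdep : ∀ m ∈ M₀, ∃ t : T, t ≠ 0 ∧ algebraMap T R t * (m : R) ∈ Ideal.span {(m₁' : R)} := by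
    intro m hm
    have hinv : ∀ q ∈ M₀, e q = iL q := fun q hq => sub_eq_zero.mp (LinearMap.mem_ker.mp hq)
    have hsym : (m : R) ⊗ₜ[T] (m₁' : R) = (m₁' : R) ⊗ₜ[T] (m : R) := by
      have := cross m m₁'
      rw [hinv m hm, hinv m₁' hm₁'] at this
      simpa [iL, iR] using this
    let Bl : R →ₗ[T] R →ₗ[T] K ⊗[T] R :=
      LinearMap.mk₂ T (fun a b => φ (j a) • j b) (fun a a' b => by simp [add_smul])
        (fun c a b => by rw [map_smul, LinearMap.map_smul_of_tower, smul_assoc]) (fun a b b' => by simp)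
        (fun c a b => by rw [map_smul, smul_comm])
    have h := congrArg (TensorProduct.lift Bl) hsym
    simp only [TensorProduct.lift.tmul, Bl, LinearMap.mk₂_apply, hφ1, one_smul] at h
    obtain ⟨⟨s, t⟩, hst⟩ := IsLocalization.surj (nonZeroDivisors T) (φ (j (m : R)))
    refine ⟨t, nonZeroDivisors.coe_ne_zero t, Ideal.mem_span_singleton'.mpr ⟨algebraMap T R s, hjinj ?_⟩⟩
    rw [← Algebra.smul_def, ← Algebra.smul_def, map_smul, map_smul, ← h, ← algebraMap_smul K s, ← hst,
      mul_comm, mul_smul, algebraMap_smul]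
  refine ⟨m₁', m₁'.2, hm₁0, ?_⟩
  let P : Ideal R :=
    { carrier := {v | ∃ t : T, t ≠ 0 ∧ algebraMap T R t * v ∈ Ideal.span {(m₁' : R)}}
      add_mem' := by
        rintro a b ⟨t, ht, hta⟩ ⟨s, hs, hsb⟩
        refine ⟨t * s, mul_ne_zero ht hs, ?_⟩
        rw [map_mul, mul_add]
        exact add_mem (by rw [mul_comm (algebraMap T R t), mul_assoc]; exact Ideal.mul_mem_left _ _ hta)
          (by rw [mul_assoc]; exact Ideal.mul_mem_left _ _ hsb)
      zero_mem' := ⟨1, one_ne_zero, by simp⟩
      smul_mem' := by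
        rintro r a ⟨t, ht, hta⟩
        exact ⟨t, ht, by rw [smul_eq_mul, mul_left_comm]; exact Ideal.mul_mem_left _ _ hta⟩ }
  have hIP : I ≤ P := hspan.trans (Ideal.span_le.mpr (by rintro _ ⟨m, hm, rfl⟩; exact hdep m hm))
  obtain ⟨G, hG⟩ := (IsNoetherian.noetherian I : I.FG)
  choose! t ht0 ht using fun v (hv : v ∈ G) => hIP (hG.le (Submodule.subset_span hv))
  refine ⟨∏ v ∈ G, t v, Finset.prod_ne_zero_iff.mpr ht0, fun v hv => ?_⟩
  have hle : I ≤ (Ideal.span {(m₁' : R)}).colon {algebraMap T R (∏ v ∈ G, t v)} := by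
    conv_lhs => rw [← hG]
    refine Ideal.span_le.mpr fun a ha => ?_
    rw [SetLike.mem_coe, Submodule.mem_colon_singleton, smul_eq_mul, mul_comm, ← Finset.prod_erase_mul G t ha,
      map_mul, mul_assoc]
    exact Ideal.mul_mem_left _ _ (ht a ha)
  have := Submodule.mem_colon_singleton.mp (hle hv)
  rwa [smul_eq_mul, mul_comm] at this

end

end Groth.Agent.Lib.TorPic85
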