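import Groth.Agent.Lib.TorPic85.Invariant
import Groth.Agent.Lib.Pic85.Dict
import Groth.Agent.Lib.Pic85.Translate
import Groth.Agent.H1.Hopf
import Groth.Agent.H1.GrpIrred
import Groth.Agent.Lib.TensorMod.Pullback
import Groth.Agent.Lib.PicGen.Main
import Groth.Agent.H52.FBase.GeomPt

/-!
# Equivariant line bundles on a torsor are trivial over an open of the base
-/

set_option autoImplicit false
universe u
open CategoryTheory MonoidalCategory CartesianMonoidalCategory MonObj GrpObj AlgebraicGeometry CategoryTheory.Limits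
open scoped TensorProduct

namespace Groth.Agent.Lib.TorPic85

open Groth.Agent.Lib Groth.Agent.Lib.Pic85

noncomputable section

theorem finiteType_of_hom {k R : Type u} [Field k] [CommRing R] [Algebra k R]
    (h : LocallyOfFiniteType (Spec.map (CommRingCat.ofHom (algebraMap k R)))) : Algebra.FiniteType k R := by
  rw [HasRingHomProperty.Spec_iff (P := @LocallyOfFiniteType)] at h
  exact RingHom.finiteType_algebraMap.mp h

/-- An ideal generated by one element after inverting `t` becomes trivial there. -/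
theorem til_trivial {R : Type u} [CommRing R] [IsDomain R] (I : Ideal R) (m : R) (hm : m ∈ I) (hm0 : m ≠ 0) (t : R)
    (ht0 : t ≠ 0) (ht : ∀ y ∈ I, t * y ∈ Ideal.span {m}) :
    Nonempty ((Scheme.Modules.pullback (Spec.map (CommRingCat.ofHom (algebraMap R (Localization.Away t))))).obj (til I) ≅
      Coh.structureModule (Spec (CommRingCat.of (Localization.Away t)))) := by
  let S := Localization.Away t
  let φ : R →+* S := algebraMap R S
  have hinj : Function.Injective φ := IsLocalization.injective S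
    (le_nonZeroDivisors_of_noZeroDivisors fun ⟨i, hi⟩ => ht0 (eq_zero_of_pow_eq_zero hi) : Submonoid.powers t ≤ _)
  have : IsDomain S := IsLocalization.isDomain_of_le_nonZeroDivisors (S := S)
    (le_nonZeroDivisors_of_noZeroDivisors fun ⟨i, hi⟩ => ht0 (eq_zero_of_pow_eq_zero hi) : Submonoid.powers t ≤ _)
  obtain ⟨p, ηI, hp, hs, hη⟩ := extend_data I φ
  let N := (ModuleCat.extendScalars φ).obj (ModuleCat.of R I)
  let g : S →ₗ[S] N := LinearMap.toSpanSingleton S N (ηI ⟨m, hm⟩)
  have hg : Function.Bijective g := by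
    constructor
    · intro a b hab
      have h := congrArg p hab
      simp only [g, LinearMap.toSpanSingleton_apply, map_smul, hp, smul_eq_mul] at h
      exact mul_right_cancel₀ (fun h0 => hm0 (hinj (h0.trans (map_zero _).symm))) h
    · rw [← LinearMap.range_eq_top, eq_top_iff, ← hs, Submodule.span_le]
      rintro _ ⟨y, rfl⟩
      obtain ⟨c, hc⟩ := Ideal.mem_span_singleton'.mp (ht y y.2)
      have hy : t • y = c • (⟨m, hm⟩ : I) := Subtype.ext hc.symm
      have h := congrArg ηI hy
      rw [hη, hη] at h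
      have hu : IsUnit (φ t) := IsLocalization.Away.algebraMap_isUnit t
      refine ⟨↑hu.unit⁻¹ * φ c, ?_⟩
      simp only [g, LinearMap.toSpanSingleton_apply]
      rw [mul_smul, ← h, ← mul_smul, IsUnit.val_inv_mul, one_smul]
  let b : Module.Basis (Fin 1) S N :=
    ((Module.Basis.singleton (Fin 1) S).map (LinearEquiv.ofBijective g hg))
  exact ⟨(QCoh.Pullback.pullbackTildeIso (CommRingCat.ofHom φ)).app (ModuleCat.of R I) ≪≫
    Kaehler.LocFree.tildeFreeIso (R := CommRingCat.of S) b ≪≫
    coproductUniqueIso fun _ : Fin 1 => Coh.structureModule _⟩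

/-- The semilinear map of an equivariant ideal. -/
theorem exists_semilinear {T R : Type u} [CommRing T] [CommRing R] [Algebra T R] (I : Ideal R)
    (h : Nonempty ((Scheme.Modules.pullback (Spec.map (CommRingCat.ofHom
        (Algebra.TensorProduct.includeRight : R →ₐ[T] R ⊗[T] R).toRingHom))).obj (til I) ≅
      (Scheme.Modules.pullback (Spec.map (CommRingCat.ofHom
        (Algebra.TensorProduct.includeLeft : R →ₐ[T] R ⊗[T] R).toRingHom))).obj (til I))) :
    ∃ e₀ : I → R ⊗[T] R,
      (∀ x y : I, e₀ x * ((1 : R) ⊗ₜ[T] (y : R)) = e₀ y * ((1 : R) ⊗ₜ[T] (x : R))) ∧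
      (∀ x, e₀ x ∈ I.map (Algebra.TensorProduct.includeLeft : R →ₐ[T] R ⊗[T] R)) ∧
      I.map (Algebra.TensorProduct.includeLeft : R →ₐ[T] R ⊗[T] R) ≤ Ideal.span (Set.range e₀) := by
  obtain ⟨i⟩ := h
  let φL : R →+* R ⊗[T] R := (Algebra.TensorProduct.includeLeft : R →ₐ[T] R ⊗[T] R).toRingHom
  let φR : R →+* R ⊗[T] R := (Algebra.TensorProduct.includeRight : R →ₐ[T] R ⊗[T] R).toRingHom
  let M := ModuleCat.of R I
  obtain ⟨pL, ηL, hpL, hsL, -⟩ := extend_data I φL
  obtain ⟨-, ηR, -, hsR, hηR⟩ := extend_data I φR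
  let iso : (tilde.functor (CommRingCat.of (R ⊗[T] R))).obj ((ModuleCat.extendScalars φR).obj M) ≅
      (tilde.functor (CommRingCat.of (R ⊗[T] R))).obj ((ModuleCat.extendScalars φL).obj M) :=
    ((QCoh.Pullback.pullbackTildeIso (CommRingCat.ofHom φR)).app M).symm ≪≫ i ≪≫
      (QCoh.Pullback.pullbackTildeIso (CommRingCat.ofHom φL)).app M
  let Φ := ((tilde.fullyFaithfulFunctor (R := CommRingCat.of (R ⊗[T] R))).preimageIso iso).toLinearEquiv
  let Q := pL ∘ₗ Φ.toLinearMap
  have hrange : LinearMap.range Q = I.map φL := by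
    rw [LinearMap.range_comp, LinearEquiv.range, Submodule.map_top, ← Submodule.map_top, ← hsL,
      Submodule.map_span, Ideal.map, ← Set.range_comp]
    show Submodule.span _ _ = Submodule.span _ _
    congr 1
    ext v
    constructor
    · rintro ⟨x, rfl⟩; exact ⟨x, x.2, (hpL x).symm⟩
    · rintro ⟨x, hx, rfl⟩; exact ⟨⟨x, hx⟩, hpL _⟩
  refine ⟨fun x => Q (ηR x), fun x y => ?_, fun x => hrange.le (LinearMap.mem_range_self _ _), ?_⟩
  · have h1 : φR y • ηR x = φR x • ηR y := by
      rw [← hηR, ← hηR]; exact congrArg ηR (Subtype.ext (mul_comm (y : R) x))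
    have h2 := congrArg Q h1
    rw [map_smul, map_smul, smul_eq_mul, smul_eq_mul] at h2
    rw [mul_comm, show (1 : R) ⊗ₜ[T] (y : R) = φR y from rfl, h2, mul_comm]
    rfl
  · refine hrange.ge.trans ?_
    rw [← Submodule.map_top, ← hsR, Submodule.map_span, ← Set.range_comp]
    exact le_rfl

variable {k : Type u} [Field k] [IsAlgClosed k]
  {G X Y : Over (Spec (CommRingCat.of k))} [GrpObj G] [IsAffine G.left] [Smooth G.hom] [ConnectedSpace ↥G.left]
  [IsIntegral X.left] [LocallyOfFiniteType X.hom] [IsIntegral Y.left]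
  (a : AlgGrp.Action G X) (f : X ⟶ Y) [Flat f.left]
  (hsq : IsPullback a.act.left (snd G X).left f.left f.left)

include hsq in
/-- An invertible module with `σ^* L ≅ p₂^* L` is trivial over a nonempty open of the base. -/
theorem exists_trivial {T R : Type u} [CommRing T] [CommRing R] [Algebra k T] [Algebra k R] [Algebra T R]
    [IsScalarTower k T R] [IsDomain T] [IsDomain R]
    (jY : Spec (CommRingCat.of T) ⟶ Y.left) (jX : Spec (CommRingCat.of R) ⟶ X.left) [IsOpenImmersion jX]
    (hjY : jY ≫ Y.hom = Spec.map (CommRingCat.ofHom (algebraMap k T)))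
    (hjX : jX ≫ X.hom = Spec.map (CommRingCat.ofHom (algebraMap k R)))
    (hpb : IsPullback jX (Spec.map (CommRingCat.ofHom (algebraMap T R))) f.left jY)
    (c : PicF.Cl X.left) (hc : PicF.IsInvertibleCl c)
    (hcl : PicF.pullCl a.act.left c = PicF.pullCl (snd G X).left c) :
    ∃ t : T, t ≠ 0 ∧ PicF.pullCl (Spec.map (CommRingCat.ofHom (algebraMap R (Localization.Away (algebraMap T R t)))) ≫ jX) c =
      PicF.cl (Coh.structureModule (Spec (CommRingCat.of (Localization.Away (algebraMap T R t))))) := by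
  obtain ⟨A, _, _, e, he⟩ := Groth.Agent.H1.Hopf.exists_iso G
  have hAft : Algebra.FiniteType k A := by
    have : IsIso e.inv.left := ((Over.forget _).mapIso e).isIso_inv
    exact Groth.Agent.H1.Hopf.finiteType_of_locallyOfFiniteType (by rw [← Over.w e.inv]; infer_instance)
  have hAdom : IsDomain A := by
    haveI : QuasiCompact G.hom := inferInstance
    have := Groth.Agent.H1.GrpIrred.isIntegral G
    let ee := (Over.forget _).mapIso e
    have : IsIntegral ((Spec (CommRingCat.of A)).asOver (Spec (CommRingCat.of k))).left := by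
      have : IsIso e.inv.left := ee.isIso_inv
      have : Nonempty ((Spec (CommRingCat.of A)).asOver (Spec (CommRingCat.of k))).left :=
        ⟨e.hom.left (Classical.arbitrary G.left)⟩
      exact isIntegral_of_isOpenImmersion e.inv.left
    exact (affine_isIntegral_iff (CommRingCat.of A)).mp this
  have hRft : Algebra.FiniteType k R := finiteType_of_hom (by rw [← hjX]; infer_instance)
  have : IsNoetherianRing R := Algebra.FiniteType.isNoetherianRing k R
  have hflat : Module.Flat T R := by
    have h : Flat (Spec.map (CommRingCat.ofHom (algebraMap T R))) := MorphismProperty.of_isPullback hpb inferInstance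
    rw [HasRingHomProperty.Spec_iff (P := @Flat)] at h
    exact RingHom.flat_algebraMap_iff.mp h
  have hinj : Function.Injective (algebraMap T R) := (injective_iff_map_eq_zero _).mpr fun t ht => by
    by_contra h0
    have h1 := Module.Flat.rTensor_preserves_injective_linearMap (M := R) (LinearMap.mulLeft T t)
      (fun a b h => mul_left_cancel₀ h0 h)
    have h2 : LinearMap.rTensor R (LinearMap.mulLeft T t) ((1 : T) ⊗ₜ (1 : R)) = 0 := by
      apply (TensorProduct.lid T R).injective
      simp [Algebra.smul_def, ht]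
    have h3 := congrArg (TensorProduct.lid T R) (h1 (h2.trans (map_zero _).symm))
    simp at h3
  have hRA : IsDomain (R ⊗[k] A) := Groth.Agent.H52.FBase.GeomPt.isDomain_tensor_of_isAlgClosed
  have hRAA : IsDomain ((R ⊗[k] A) ⊗[k] A) := Groth.Agent.H52.FBase.GeomPt.isDomain_tensor_of_isAlgClosed
  -- the product chart
  let SA := (Spec (CommRingCat.of A)).asOver (Spec (CommRingCat.of k))
  let SR := (Spec (CommRingCat.of R)).asOver (Spec (CommRingCat.of k))
  let SP := (Spec (CommRingCat.of (R ⊗[k] A))).asOver (Spec (CommRingCat.of k))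
  let pA : Spec (CommRingCat.of (R ⊗[k] A)) ⟶ Spec (CommRingCat.of A) :=
    Spec.map (CommRingCat.ofHom (Algebra.TensorProduct.includeRight : A →ₐ[k] R ⊗[k] A).toRingHom)
  let pR : Spec (CommRingCat.of (R ⊗[k] A)) ⟶ Spec (CommRingCat.of R) :=
    Spec.map (CommRingCat.ofHom (Algebra.TensorProduct.includeLeft : R →ₐ[k] R ⊗[k] A).toRingHom)
  let jXo : SR ⟶ X := Over.homMk jX hjX
  let qR : SP ⟶ SR := Over.homMk pR (by
    show pR ≫ Spec.map _ = Spec.map _
    rw [← Spec.map_comp]
    exact congrArg Spec.map (CommRingCat.hom_ext (Algebra.TensorProduct.includeLeft : R →ₐ[k] R ⊗[k] A).comp_algebraMap))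
  let qA : SP ⟶ SA := Over.homMk pA (by
    show pA ≫ Spec.map _ = Spec.map _
    rw [← Spec.map_comp]; congr 1; ext1
    exact (Algebra.TensorProduct.includeRight : A →ₐ[k] R ⊗[k] A).comp_algebraMap)
  let n : SP ⟶ G ⊗ X := lift (qA ≫ e.inv) (qR ≫ jXo)
  have hn2 : n.left ≫ (snd G X).left = pR ≫ jX := by rw [← Over.comp_left, lift_snd]; rfl
  let ee : Spec (CommRingCat.of A) ≅ G.left := ((Over.forget _).mapIso e).symm
  have hkA : IsPullback pA pR (Spec.map (CommRingCat.ofHom (algebraMap k A))) (Spec.map (CommRingCat.ofHom (algebraMap k R))) :=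
    (isPullback_SpecMap_of_isPushout _ _ _ _ (CommRingCat.isPushout_tensorProduct k R A)).flip
  have hsqn : IsPullback n.left pR (snd G X).left jX := by
    have houter : IsPullback (n.left ≫ (fst G X).left) pR G.hom (jX ≫ X.hom) := by
      rw [hjX, show n.left ≫ (fst G X).left = pA ≫ ee.hom by rw [← Over.comp_left, lift_fst]; rfl]
      refine hkA.of_iso (Iso.refl _) ee (Iso.refl _) (Iso.refl _) ((Category.id_comp _).symm) ((Category.comp_id _).trans (Category.id_comp _).symm) ?_
        ((Category.comp_id _).trans (Category.id_comp _).symm)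
      rw [Iso.refl_hom, Category.comp_id]
      exact (Over.w e.inv).symm
    exact IsPullback.of_right houter hn2 (IsPullback.of_hasPullback G.hom X.hom)
  have hfn : (n.left ≫ a.act.left) ≫ f.left = (pR ≫ Spec.map (CommRingCat.ofHom (algebraMap T R))) ≫ jY :=
    (Category.assoc _ _ _).trans ((congrArg (n.left ≫ ·) hsq.w).trans ((Category.assoc _ _ _).symm.trans
      ((congrArg (· ≫ f.left) hn2).trans ((Category.assoc pR jX f.left).trans
        ((congrArg (pR ≫ ·) hpb.w).trans (Category.assoc _ _ _).symm)))))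
  let rho := hpb.lift (n.left ≫ a.act.left) (pR ≫ Spec.map (CommRingCat.ofHom (algebraMap T R))) hfn
  have hrho1 : rho ≫ jX = n.left ≫ a.act.left := hpb.lift_fst _ _ _
  have hrho2 : rho ≫ Spec.map (CommRingCat.ofHom (algebraMap T R)) =
      pR ≫ Spec.map (CommRingCat.ofHom (algebraMap T R)) := hpb.lift_snd _ _ _
  have hrhoT : ∀ t : T, (Spec.preimage rho).hom (algebraMap T R t) = algebraMap T R t ⊗ₜ[k] (1 : A) := fun t => by
    have h := hrho2
    rw [← Spec.map_preimage rho] at h
    exact ConcreteCategory.congr_hom (Spec.map_injective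
      (((Spec.map_comp _ _).trans h).trans (Spec.map_comp _ _).symm)) t
  let ρ : R →ₐ[T] R ⊗[k] A :=
    { (Spec.preimage rho).hom with
      commutes' := fun t => (hrhoT t).trans (by rw [Algebra.TensorProduct.algebraMap_apply]) }
  have hρ : Spec.map (CommRingCat.ofHom ρ.toRingHom) = rho := Spec.map_preimage rho
  -- the graph of the action is the fibre square
  have hsq2 : IsPullback rho pR (Spec.map (CommRingCat.ofHom (algebraMap T R)))
      (Spec.map (CommRingCat.ofHom (algebraMap T R))) := by
    have h := hsqn.paste_horiz (h₁₁ := n.left) (h₁₂ := a.act.left) hsq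
    rw [← hrho1, hpb.w] at h
    exact IsPullback.of_right h hrho2 hpb
  let rR : Spec (CommRingCat.of (R ⊗[T] R)) ⟶ Spec (CommRingCat.of R) :=
    Spec.map (CommRingCat.ofHom (Algebra.TensorProduct.includeRight : R →ₐ[T] R ⊗[T] R).toRingHom)
  let rL : Spec (CommRingCat.of (R ⊗[T] R)) ⟶ Spec (CommRingCat.of R) :=
    Spec.map (CommRingCat.ofHom (Algebra.TensorProduct.includeLeft : R →ₐ[T] R ⊗[T] R).toRingHom)
  have hTR : IsPullback rR rL (Spec.map (CommRingCat.ofHom (algebraMap T R))) (Spec.map (CommRingCat.ofHom (algebraMap T R))) :=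
    (isPullback_SpecMap_of_isPushout _ _ _ _ (CommRingCat.isPushout_tensorProduct T R R)).flip
  let C := Spec.map (CommRingCat.ofHom (cmp ρ).toRingHom)
  have hCR : C ≫ rR = rho := by
    rw [← hρ, ← Spec.map_comp]; congr 1; ext r
    exact (cmp_tmul ρ 1 r).trans (_root_.one_mul _)
  have hCL : C ≫ rL = pR := by
    show _ = Spec.map _
    rw [← Spec.map_comp]; congr 1; ext r
    exact (cmp_tmul ρ r 1).trans (by rw [map_one, _root_.mul_one]; rfl)
  have hC : C = (hsq2.isoIsPullback _ _ hTR).hom := hTR.hom_ext (hCR.trans (hsq2.isoIsPullback_hom_fst _ _ hTR).symm)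
    (hCL.trans (hsq2.isoIsPullback_hom_snd _ _ hTR).symm)
  have : IsIso C := hC ▸ inferInstance
  have hbij : Function.Bijective (cmp ρ) := isIso_SpecMap_iff.mp (show IsIso C from inferInstance)
  -- the unit
  let ε : A →ₐ[k] k := pone k A
  have hε : ∀ (x : R →ₐ[k] k) (r : R), pm x ε (ρ r) = x r := by
    intro x r
    let U := (Spec (CommRingCat.of k)).asOver (Spec (CommRingCat.of k))
    let q : U ⟶ SP := Over.homMk (Spec.map (CommRingCat.ofHom (pm x ε).toRingHom)) (by
      show Spec.map _ ≫ Spec.map _ = Spec.map _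
      rw [← Spec.map_comp]; congr 1; ext1
      exact (pm x ε).comp_algebraMap)
    let qx : U ⟶ SR := Over.homMk (Spec.map (CommRingCat.ofHom x.toRingHom)) (by
      show Spec.map _ ≫ Spec.map _ = Spec.map _
      rw [← Spec.map_comp]; congr 1; ext1
      exact x.comp_algebraMap)
    have h1 : q ≫ qA = (1 : U ⟶ SA) := by
      rw [← map_one (Spec.mapMulEquiv (R := k) (S := A) (T := k))]
      apply Over.OverMorphism.ext
      show Spec.map _ ≫ Spec.map _ = Spec.map _
      rw [← Spec.map_comp]; congr 1; ext v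
      exact (Algebra.TensorProduct.productMap_apply_tmul x ε 1 v).trans (by rw [map_one, _root_.one_mul]; rfl)
    have h2 : q ≫ qR = qx := by
      apply Over.OverMorphism.ext
      show Spec.map _ ≫ Spec.map _ = Spec.map _
      rw [← Spec.map_comp]; congr 1; ext v
      exact (Algebra.TensorProduct.productMap_apply_tmul x ε v 1).trans (by rw [map_one, _root_.mul_one]; rfl)
    have : IsMonHom e.inv := inferInstance
    have h3 : q ≫ n ≫ a.act = qx ≫ jXo := by
      simp only [n]
      rw [← Category.assoc, comp_lift, ← Category.assoc, h1, ← Category.assoc, h2, MonObj.one_comp]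
      have h4 : lift (1 : U ⟶ G) (qx ≫ jXo) = lift (toUnit U) (qx ≫ jXo) ≫ η[G] ▷ X := by
        rw [lift_whiskerRight, Hom.one_def]
      rw [h4, Category.assoc, a.one_act, leftUnitor_hom, lift_snd]
    have h5 : Spec.map (CommRingCat.ofHom (pm x ε).toRingHom) ≫ rho = Spec.map (CommRingCat.ofHom x.toRingHom) := by
      rw [← cancel_mono jX]
      refine (Category.assoc _ _ _).trans ((congrArg (_ ≫ ·) hrho1).trans ?_)
      exact congrArg (fun m : U ⟶ X => m.left) h3
    rw [← hρ, ← Spec.map_comp] at h5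
    exact ConcreteCategory.congr_hom (Spec.map_injective h5) r
  -- the ideal
  obtain ⟨L, hL, hLi⟩ := PicLoc.isInvertibleCl_pullCl jX hc
  obtain ⟨I, hI, hIinv, ⟨i⟩⟩ := exists_ideal L hLi
  have hI' : PicF.cl (til I) = PicF.pullCl jX c := (show PicF.cl (til I) = PicF.cl L from Quot.sound ⟨i⟩).trans hL
  have hiso : PicF.cl ((Scheme.Modules.pullback rR).obj (til I)) = PicF.cl ((Scheme.Modules.pullback rL).obj (til I)) := by
    rw [← PicLoc.pullCl_cl, ← PicLoc.pullCl_cl, hI']
    have h : PicF.pullCl C (PicF.pullCl rR (PicF.pullCl jX c)) = PicF.pullCl C (PicF.pullCl rL (PicF.pullCl jX c)) := by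
      simp only [← PicLoc.pullCl_comp]
      rw [← Category.assoc, hCR, ← Category.assoc, hCL]
      refine (congrArg (fun j => PicF.pullCl j c) hrho1).trans (Eq.trans ?_ (congrArg (fun j => PicF.pullCl j c) hn2))
      exact (PicLoc.pullCl_comp _ _ _).trans ((congrArg (PicF.pullCl n.left) hcl).trans (PicLoc.pullCl_comp _ _ _).symm)
    have h2 := congrArg (PicF.pullCl (inv C)) h
    rwa [← PicLoc.pullCl_comp (inv C), ← PicLoc.pullCl_comp (inv C), IsIso.inv_hom_id, PicLoc.pullCl_id,
      PicLoc.pullCl_id] at h2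
  obtain ⟨e₀, c₀, m₀, s₀⟩ := exists_semilinear I ((PicGrp.cl_eq_cl_iff _ _).mp hiso)
  obtain ⟨m, hm, hm0, t, ht0, ht⟩ := exists_generator hinj ρ hbij ε hε I hI e₀ c₀ m₀ s₀
  have htR : algebraMap T R t ≠ 0 := fun h => ht0 (hinj (h.trans (map_zero _).symm))
  obtain ⟨j⟩ := til_trivial I m hm hm0 _ htR ht
  refine ⟨t, ht0, ?_⟩
  rw [PicLoc.pullCl_comp, ← hI']
  exact Quot.sound ⟨j⟩

end

end Groth.Agent.Lib.TorPic85
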